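/-
Congruences between character values.

* `frobenius_congr`: `(χ g) ^ (p ^ k) - χ (g ^ (p ^ k))` is `p` times an algebraic integer
* `memI_sub_of_pow_eq`: `χ g ≡ χ s` mod `M` when `g ^ (p ^ k) = s ^ (p ^ k)`
* `memI_sub_one_of_pow_eq_one`: roots of unity of `p`-power order are `≡ 1` mod `M`
-/
import Cfsg.Agent.Lib.Char.Eigen
import Cfsg.Agent.Lib.Blocks.Local

set_option autoImplicit false

namespace Cfsg.Agent.CentralChar

open Cfsg Cfsg.Agent.Blocks

variable {p : ℕ}

/-- The freshman's dream for a finite sum of algebraic integers. -/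
theorem sum_pow_prime_pow (hp : p.Prime) (k : ℕ) {ι : Type*} (s : Finset ι) {f : ι → ℂ}
    (hf : ∀ i ∈ s, IsIntegral ℤ (f i)) :
    ∃ r : ℂ, IsIntegral ℤ r ∧ (∑ i ∈ s, f i) ^ p ^ k - ∑ i ∈ s, f i ^ p ^ k = (p : ℂ) * r := by
  classical
  induction s using Finset.induction_on with
  | empty => exact ⟨0, isIntegral_zero, by simp [hp.ne_zero]⟩
  | insert a s ha ih =>
    obtain ⟨r, hr, he⟩ := ih fun i hi => hf i (Finset.mem_insert_of_mem hi)
    let x : AlgInt := ⟨f a, hf a (Finset.mem_insert_self a s)⟩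
    let y : AlgInt := ⟨∑ i ∈ s, f i, IsIntegral.sum _ fun i hi => hf i (Finset.mem_insert_of_mem hi)⟩
    obtain ⟨t, ht⟩ := (Commute.all x y).exists_add_pow_prime_pow_eq hp k
    have ht' := congrArg Subtype.val ht
    push_cast at ht'
    refine ⟨f a * (∑ i ∈ s, f i) * (t : ℂ) + r, ?_, ?_⟩
    · exact ((x.2.mul y.2).mul t.2).add hr
    · rw [Finset.sum_insert ha, Finset.sum_insert ha]
      simp only [x, y] at ht'
      linear_combination ht' + he

variable {G : Type*} [Group G] [Finite G]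

/-- `(χ g) ^ q ≡ χ (g ^ q)` modulo `p`, for `q` a power of `p`. -/
theorem frobenius_congr (hp : p.Prime) (k : ℕ) {χ : G → ℂ} (hχ : IsCharacter G χ) (g : G) :
    ∃ r : ℂ, IsIntegral ℤ r ∧ χ g ^ p ^ k - χ (g ^ p ^ k) = (p : ℂ) * r := by
  obtain ⟨n, ρ, rfl⟩ := hχ
  obtain ⟨b, μ, hμ, hroot⟩ := Char.exists_eigenbasis ρ g
  rw [Char.character_eq_sum_eigenvalues ρ g b μ hμ, Char.character_pow ρ g b μ hμ]
  refine sum_pow_prime_pow hp k _ fun i _ => ?_
  exact IsIntegral.of_pow (orderOf_pos g) (by rw [hroot i]; exact isIntegral_one)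

variable {M : Ideal AlgInt}

theorem memI_frobenius (hM : IsPModular p M) (k : ℕ) {χ : G → ℂ} (hχ : IsCharacter G χ) (g : G) :
    MemLocalIdeal M (χ g ^ p ^ k - χ (g ^ p ^ k)) := by
  obtain ⟨r, hr, he⟩ := frobenius_congr hM.1 k hχ g
  rw [he]
  exact memI_mul_right hM (memI_p hM) (memR_of_isIntegral hM hr)

/-- Algebraic integers congruent after raising to a `p`-power are congruent mod `M`. -/
theorem memI_sub_of_pow (hM : IsPModular p M) {x y : ℂ} (hx : IsIntegral ℤ x) (hy : IsIntegral ℤ y)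
    (k : ℕ) (h : MemLocalIdeal M (x ^ p ^ k - y ^ p ^ k)) : MemLocalIdeal M (x - y) := by
  classical
  let a : AlgInt := ⟨x - y, hx.sub hy⟩
  let b : AlgInt := ⟨y, hy⟩
  obtain ⟨t, ht⟩ := (Commute.all a b).exists_add_pow_prime_pow_eq hM.1 k
  have ht' := congrArg Subtype.val ht
  push_cast at ht'
  simp only [a, b, sub_add_cancel] at ht'
  refine memI_of_pow hM (memR_of_isIntegral hM (hx.sub hy)) (n := p ^ k) ?_
  have e : (x - y) ^ p ^ k = (x ^ p ^ k - y ^ p ^ k) - (p : ℂ) * ((x - y) * y * (t : ℂ)) := by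
    linear_combination -ht'
  rw [e]
  exact memI_sub hM h (memI_mul_right hM (memI_p hM)
    (memR_of_isIntegral hM (((hx.sub hy).mul hy).mul t.2)))

/-- Elements with the same `p`-regular part have congruent character values. -/
theorem memI_sub_of_pow_eq (hM : IsPModular p M) {χ : G → ℂ} (hχ : IsCharacter G χ) {g s : G}
    {k : ℕ} (h : g ^ p ^ k = s ^ p ^ k) : MemLocalIdeal M (χ g - χ s) := by
  refine memI_sub_of_pow hM (Char.IsCharacter.isIntegral hχ g) (Char.IsCharacter.isIntegral hχ s) k ?_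
  have h1 := memI_frobenius hM k hχ g
  have h2 := memI_frobenius hM k hχ s
  rw [← h] at h2
  simpa using memI_sub hM h1 h2

/-- A `p`-element has character value congruent to the degree. -/
theorem memI_sub_apply_one (hM : IsPModular p M) {χ : G → ℂ} (hχ : IsCharacter G χ) {g : G}
    {k : ℕ} (h : g ^ p ^ k = 1) : MemLocalIdeal M (χ g - χ 1) :=
  memI_sub_of_pow_eq hM hχ (h.trans (one_pow _).symm)

theorem memI_sub_one_of_pow_eq_one (hM : IsPModular p M) {z : ℂ} {k : ℕ} (h : z ^ p ^ k = 1) :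
    MemLocalIdeal M (z - 1) := by
  refine memI_sub_of_pow hM ?_ isIntegral_one k ?_
  · exact IsIntegral.of_pow (pow_pos hM.1.pos k) (by rw [h]; exact isIntegral_one)
  · rw [h, one_pow, sub_self]; exact memI_zero hM

end Cfsg.Agent.CentralChar
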