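/-
Fixed vectors and kernels through congruences.

* `exists_pModular`: a maximal ideal over `p`
* `exists_linear_constituent`: a character of degree prime to `p` has a linear constituent on a `p`-group
* `mem_commutator_of_ker`: elements in all kernels of `p'`-degree characters meet `H` inside `H'`
  for subgroups `H` of index prime to `p`
* `invariants_ne_bot_of_sum_ne_zero`, `eq_one_of_normal_of_invariants`
-/
import Cfsg.Agent.Lib.CentralChar.Congr
import Cfsg.Agent.Lib.Char.Integral
import Cfsg.Agent.Lib.Char.Induced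
import Cfsg.Agent.Lib.Char.Linear
import Cfsg.Agent.Lib.CharApp.Unitary

set_option autoImplicit false

namespace Cfsg.Agent.CentralChar

open Cfsg

theorem exists_pModular (p : ℕ) [hp : Fact p.Prime] : ∃ M : Ideal AlgInt, IsPModular p M := by
  have h : Ideal.span {(p : AlgInt)} ≠ ⊤ := by
    intro h
    rw [Ideal.span_singleton_eq_top] at h
    obtain ⟨b, hb⟩ := isUnit_iff_exists_inv.mp h
    have hb' : (p : ℂ) * (b : ℂ) = 1 := by exact_mod_cast congrArg Subtype.val hb
    have hp0 : (p : ℂ) ≠ 0 := Nat.cast_ne_zero.mpr hp.out.ne_zero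
    have h1 : p ∣ 1 := Char.nat_dvd_of_isIntegral_div hp.out.ne_zero (by
      rw [show ((1 : ℕ) : ℂ) / (p : ℂ) = (b : ℂ) by rw [div_eq_iff hp0, Nat.cast_one, ← hb']; ring]
      exact b.2)
    exact hp.out.ne_one (Nat.dvd_one.mp h1)
  obtain ⟨M, hM, hle⟩ := Ideal.exists_le_maximal _ h
  exact ⟨M, hp.out, hM, hle (Ideal.mem_span_singleton_self _)⟩

variable {G : Type*} [Group G] [Finite G] {V : Type*} [AddCommGroup V] [Module ℂ V]
  [FiniteDimensional ℂ V]

theorem invariants_ne_bot_of_sum_ne_zero (ρ : Representation ℂ G V) (Q : Subgroup G) [Fintype Q]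
    (h : ∑ q : Q, ρ.character (q : G) ≠ 0) :
    ∃ v : V, v ≠ 0 ∧ ∀ q ∈ Q, ρ q v = v := by
  let ρQ : Representation ℂ Q V := ρ.comp Q.subtype
  have h1 := CharApp.sum_char_eq_card_mul ρQ
  have h2 : Representation.invariants ρQ ≠ ⊥ := by
    intro h0
    apply h
    change ∑ q : Q, ρQ.character q = 0
    rw [h1, h0, finrank_bot]
    simp
  obtain ⟨v, hv, hv0⟩ := (Submodule.ne_bot_iff _).mp h2
  exact ⟨v, hv0, fun q hq => hv ⟨q, hq⟩⟩

omit [Finite G] [FiniteDimensional ℂ V] in
/-- A normal subgroup fixing a nonzero vector of an irreducible representation acts trivially. -/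
theorem eq_one_of_normal_of_invariants (ρ : Representation ℂ G V) [ρ.IsIrreducible] (L : Subgroup G)
    [hL : L.Normal] {v : V} (hv0 : v ≠ 0) (hv : ∀ l ∈ L, ρ l v = v) {l : G} (hl : l ∈ L) :
    ρ l = 1 := by
  let W : Submodule ℂ V :=
    { carrier := {w | ∀ l ∈ L, ρ l w = w}
      add_mem' := fun {a b} ha hb l hl => by rw [map_add, ha l hl, hb l hl]
      zero_mem' := fun l _ => map_zero _
      smul_mem' := fun c a ha l hl => by rw [map_smul, ha l hl] }
  rcases CharApp.eq_bot_or_top_of_invariant ρ W (fun g w hw l hl => by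
      rw [← Module.End.mul_apply, ← map_mul, show l * g = g * (g⁻¹ * l * g⁻¹⁻¹) by group, map_mul,
        Module.End.mul_apply, hw _ (hL.conj_mem l hl g⁻¹)]) with hW | hW
  · exact absurd ((Submodule.mem_bot ℂ).mp (hW ▸ (show v ∈ W from hv))) hv0
  · exact LinearMap.ext fun w => (hW ▸ Submodule.mem_top : w ∈ W) l hl

variable {p : ℕ} [hp : Fact p.Prime]

/-- A character of degree prime to `p` of a `p`-group has a linear constituent. -/
theorem exists_linear_constituent (hG : IsPGroup p G) {χ : G → ℂ} (hχ : IsCharacter G χ) {d : ℕ}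
    (hd : χ 1 = d) (hpd : ¬ p ∣ d) [Fintype G] :
    ∃ φ : IrrCharacter G, (φ : G → ℂ) 1 = 1 ∧ classInner χ (φ : G → ℂ) ≠ 0 := by
  classical
  haveI := Fintype.ofFinite (IrrCharacter G)
  obtain ⟨m, hm, hm'⟩ := Char.IsCharacter.decompose hχ
  choose e he0 he hedvd using fun φ : IrrCharacter G => Char.IsIrrCharacter.degree_dvd_card φ.2
  have hsum : d = ∑ φ : IrrCharacter G, m φ * e φ := by
    have h1 := congrFun hm 1
    simp only [hd, Finset.sum_apply, Pi.smul_apply, smul_eq_mul, he] at h1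
    exact_mod_cast h1
  obtain ⟨φ, hφ⟩ : ∃ φ : IrrCharacter G, ¬ p ∣ m φ * e φ := by
    by_contra hh
    push Not at hh
    exact hpd (hsum ▸ Finset.dvd_sum fun φ _ => hh φ)
  refine ⟨φ, ?_, ?_⟩
  · obtain ⟨k, hk⟩ := IsPGroup.iff_card.mp hG
    obtain ⟨i, -, hi⟩ := (Nat.dvd_prime_pow hp.out).mp (hk ▸ hedvd φ)
    rcases i with _ | i
    · simp [he, hi]
    · exact absurd ((dvd_pow_self p i.succ_ne_zero).trans (hi ▸ dvd_mul_left (e φ) (m φ))) hφ
  · rw [hm', Nat.cast_ne_zero]
    intro h0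
    exact hφ (by rw [h0, zero_mul]; exact dvd_zero p)

/-- If `x` is in the kernel of every irreducible character of degree prime to `p` and lies in a
subgroup `H` of index prime to `p`, then `x ∈ H'`. -/
theorem mem_commutator_of_ker (H : Subgroup G) (hH : ¬ p ∣ H.index) {x : G} (hxH : x ∈ H)
    (hx : ∀ χ : IrrCharacter G, ¬ p ∣ charDegree (χ : G → ℂ) → (χ : G → ℂ) x = (χ : G → ℂ) 1) :
    x ∈ ⁅H, H⁆ := by
  classical
  haveI := Fintype.ofFinite G
  haveI := Fintype.ofFinite (IrrCharacter G)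
  rw [← Subgroup.map_subtype_commutator]
  refine ⟨⟨x, hxH⟩, ?_, rfl⟩
  by_contra hnot
  have hne : Abelianization.of (⟨x, hxH⟩ : H) ≠ 1 := fun h => hnot ((QuotientGroup.eq_one_iff _).mp h)
  haveI : NeZero (Monoid.exponent (Abelianization H)) := ⟨Monoid.exponent_ne_zero_of_finite⟩
  haveI : NeZero ((Monoid.exponent (Abelianization H) : ℕ) : ℂ) :=
    ⟨Nat.cast_ne_zero.2 (NeZero.ne _)⟩
  obtain ⟨f, hf⟩ := CommGroup.exists_apply_ne_one_of_hasEnoughRootsOfUnity (Abelianization H) ℂ hne
  let l : H →* ℂ := (Units.coeHom ℂ).comp (f.comp Abelianization.of)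
  have hl : IsCharacter H l := Char.isCharacter_of_hom l
  have hlx : l ⟨x, hxH⟩ ≠ 1 := fun h => hf (Units.ext h)
  have hind := Char.IsCharacter.indFun H hl
  obtain ⟨m, hm, hm'⟩ := Char.IsCharacter.decompose hind
  choose e he0 he using fun φ : IrrCharacter G => Char.IsIrrCharacter.exists_degree φ.2
  have hsum : H.index = ∑ φ : IrrCharacter G, m φ * e φ := by
    have h1 := congrFun hm 1
    rw [Char.indFun_one_apply, map_one, mul_one] at h1
    simp only [Finset.sum_apply, Pi.smul_apply, smul_eq_mul, he] at h1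
    exact_mod_cast h1
  obtain ⟨χ, hχ⟩ : ∃ φ : IrrCharacter G, ¬ p ∣ m φ * e φ := by
    by_contra hh
    push Not at hh
    exact hH (hsum ▸ Finset.dvd_sum fun φ _ => hh φ)
  have hχd : ¬ p ∣ charDegree (χ : G → ℂ) := by
    have : charDegree (χ : G → ℂ) = e χ := by simp [charDegree, he]
    rw [this]
    exact fun h => hχ (h.trans (dvd_mul_left _ _))
  have hinner : classInner (l : H → ℂ) (fun h : H => (χ : G → ℂ) h) ≠ 0 := by
    rw [← Char.frobenius_reciprocity H _ (Char.IsIrrCharacter.isClassFunction χ.2), hm',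
      Nat.cast_ne_zero]
    intro h0
    exact hχ (by rw [h0, zero_mul]; exact dvd_zero p)
  obtain ⟨χf, n, ρ, hi, rfl⟩ := χ
  have hρx : ρ x = 1 :=
    (Char.character_eq_finrank_iff ρ x).mp ((hx _ hχd).trans (Representation.char_one ρ))
  apply hlx
  have hshift : classInner (l : H → ℂ) (fun h : H => ρ.character h) =
      l ⟨x, hxH⟩ * classInner (l : H → ℂ) (fun h : H => ρ.character h) := by
    simp only [classInner]
    rw [mul_left_comm (l _), Finset.mul_sum _ _ (l _)]
    congr 1
    refine (Fintype.sum_equiv (Equiv.mulLeft (⟨x, hxH⟩ : H)) _ _ fun h => ?_).symm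
    simp only [Equiv.coe_mulLeft, map_mul, Subgroup.coe_mul, Representation.character, hρx, one_mul]
    ring
  exact (mul_eq_right₀ hinner).mp hshift.symm

end Cfsg.Agent.CentralChar
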