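/-
Deflation and twisting.

* `exists_deflation`: an irreducible character trivial on a normal `N` comes from `G ⧸ N`
* `exists_linear_twist`: two extensions of an irreducible character differ by a linear character
-/
import Cfsg.Agent.Lib.Char.Inner
import Cfsg.Agent.Lib.Char.Eigen
import Cfsg.Agent.Lib.CharApp.Schur

set_option autoImplicit false

namespace Cfsg.Agent.CentralChar

open Cfsg

variable {G : Type*} [Group G] [Finite G]

theorem exists_deflation (N : Subgroup G) [N.Normal] (χ : IrrCharacter G)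
    (h : ∀ n ∈ N, (χ : G → ℂ) n = (χ : G → ℂ) 1) :
    ∃ ψ : IrrCharacter (G ⧸ N), ∀ g : G, (χ : G → ℂ) g = (ψ : G ⧸ N → ℂ) g := by
  obtain ⟨χ, n, ρ, hi, rfl⟩ := χ
  have hker : N ≤ MonoidHom.ker (ρ : G →* Module.End ℂ (Fin n → ℂ)) := fun x hx => by
    rw [MonoidHom.mem_ker]
    exact (Char.character_eq_finrank_iff ρ x).mp ((h x hx).trans (Representation.char_one ρ))
  let σ : Representation ℂ (G ⧸ N) (Fin n → ℂ) := QuotientGroup.lift N ρ hker
  have hσ : ∀ g : G, σ (g : G ⧸ N) = ρ g := fun g => rfl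
  haveI := CharApp.nontrivial_of_irr ρ
  haveI : σ.IsIrreducible := CharApp.isIrreducible_of_forall_invariant σ fun W hW =>
    CharApp.eq_bot_or_top_of_invariant ρ W fun g v hv => (hσ g) ▸ hW (g : G ⧸ N) v hv
  exact ⟨⟨σ.character, n, σ, inferInstance, rfl⟩, fun g => rfl⟩

/-- Two extensions of an irreducible character of `N` differ by a linear character of `G / N`. -/
theorem exists_linear_twist (N : Subgroup G) [N.Normal] {χ ψ : G → ℂ} (hχ : IsIrrCharacter G χ)
    (hψ : IsIrrCharacter G ψ) (hθ : IsIrrCharacter N (fun x : N => χ x))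
    (heq : ∀ x : N, ψ x = χ x) :
    ∃ c : G →* ℂ, (∀ x ∈ N, c x = 1) ∧ ∀ g : G, ψ g = c g * χ g := by
  obtain ⟨n, ρ, hi, rfl⟩ := hχ
  obtain ⟨m, σ, hj, rfl⟩ := hψ
  let ρN : Representation ℂ N (Fin n → ℂ) := ρ.comp N.subtype
  let σN : Representation ℂ N (Fin m → ℂ) := σ.comp N.subtype
  obtain ⟨T⟩ := Char.equiv_of_character_eq ρN σN (funext fun x => (heq x).symm)
  haveI : ρN.IsIrreducible := by
    obtain ⟨k, τ, hτ, hτc⟩ := hθ
    obtain ⟨T'⟩ := Char.equiv_of_character_eq τ ρN hτc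
    exact Char.isIrreducible_congr T' hτ
  haveI := CharApp.nontrivial_of_irr ρN
  let e : (Fin n → ℂ) ≃ₗ[ℂ] (Fin m → ℂ) := T.toLinearEquiv
  have hT : ∀ (x : N) (v : Fin n → ℂ), e (ρ (x : G) v) = σ (x : G) (e v) :=
    fun x v => T.toIntertwiningMap.isIntertwining ρN σN x v
  -- `S g` commutes with the restriction of `ρ`, so it is a scalar
  let S : G → Module.End ℂ (Fin n → ℂ) := fun g =>
    e.symm.toLinearMap ∘ₗ σ g ∘ₗ e.toLinearMap ∘ₗ ρ g⁻¹
  have hS : ∀ g, ∃ c : ℂ, S g = c • 1 := by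
    intro g
    refine CharApp.exists_scalar_of_commute ρN (S g) fun x => LinearMap.ext fun v => ?_
    have hconj : g⁻¹ * (x : G) * g⁻¹⁻¹ ∈ N := Subgroup.Normal.conj_mem ‹_› _ x.2 g⁻¹
    show e.symm (σ g (e (ρ g⁻¹ (ρ (x : G) v)))) = ρ (x : G) (e.symm (σ g (e (ρ g⁻¹ v))))
    apply e.injective
    rw [hT, LinearEquiv.apply_symm_apply, LinearEquiv.apply_symm_apply,
      ← Module.End.mul_apply (ρ g⁻¹), ← map_mul,
      show g⁻¹ * (x : G) = (g⁻¹ * (x : G) * g⁻¹⁻¹) * g⁻¹ by group, map_mul, Module.End.mul_apply,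
      hT ⟨_, hconj⟩, ← Module.End.mul_apply (σ g), ← map_mul, ← Module.End.mul_apply (σ (x : G)),
      ← map_mul, show g * (g⁻¹ * (x : G) * g⁻¹⁻¹) = (x : G) * g by group]
  choose c hc using hS
  have hσg : ∀ g v, σ g (e v) = c g • e (ρ g v) := by
    intro g v
    have h1 := congrArg e (LinearMap.congr_fun (hc g) (ρ g v))
    simp only [S, LinearMap.comp_apply, LinearEquiv.coe_coe, LinearEquiv.apply_symm_apply,
      LinearMap.smul_apply, Module.End.one_apply, map_smul] at h1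
    rwa [← Module.End.mul_apply (ρ g⁻¹), ← map_mul, inv_mul_cancel, map_one,
      Module.End.one_apply] at h1
  obtain ⟨v₀, hv₀⟩ := exists_ne (0 : Fin n → ℂ)
  have hinj : ∀ g, ∀ a b : ℂ, a • e (ρ g v₀) = b • e (ρ g v₀) → a = b := by
    intro g a b hab
    refine smul_left_injective ℂ ?_ hab
    intro h0
    rw [LinearEquiv.map_eq_zero_iff] at h0
    exact hv₀ (by simpa [← Module.End.mul_apply, ← map_mul] using congrArg (ρ g⁻¹) h0)
  have hone : ∀ x ∈ N, c x = 1 := fun x hx => hinj x _ _ (by rw [← hσg, one_smul, hT ⟨x, hx⟩])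
  refine ⟨⟨⟨c, hone 1 N.one_mem⟩, fun a b => hinj (a * b) _ _ ?_⟩, hone, fun g => ?_⟩
  · rw [← hσg, map_mul, Module.End.mul_apply, hσg, map_smul, hσg, smul_smul, mul_comm (c b), map_mul,
      Module.End.mul_apply]
  · show σ.character g = c g * ρ.character g
    have h1 : σ g = c g • (e.conj (ρ g)) := LinearMap.ext fun w => by
      obtain ⟨v, rfl⟩ := e.surjective w
      rw [hσg, LinearMap.smul_apply, LinearEquiv.conj_apply_apply, LinearEquiv.symm_apply_apply]
    simp only [Representation.character, h1, map_smul, smul_eq_mul, LinearMap.trace_conj']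

end Cfsg.Agent.CentralChar
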