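/-
Gow's observation: an irreducible character of odd degree that is self-dual modulo `M` lies in
the principal `2`-block.

* `memI_pair_sum`: an off-diagonal sum of an antisymmetric (mod `M`) kernel vanishes mod `M`
* `centralChar_eq_class`: the central character through the finite set of conjugates
* `mem_principal_of_selfdual`
-/
import Cfsg.Agent.Lib.CentralChar.Congr
import Cfsg.Agent.Lib.Char.Integral
import Cfsg.Agent.Lib.CharApp.Schur

set_option autoImplicit false

namespace Cfsg.Agent.CentralChar

open Cfsg Cfsg.Agent.Blocks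

variable {p : ℕ} {M : Ideal AlgInt}

theorem memI_pair_sum (hM : IsPModular p M) {α : Type*} (s : Finset α) (h : α → α → ℂ)
    (hh : ∀ a ∈ s, ∀ b ∈ s, a ≠ b → MemLocalIdeal M (h a b + h b a)) :
    MemLocalIdeal M (∑ a ∈ s, ∑ b ∈ s, h a b - ∑ a ∈ s, h a a) := by
  classical
  induction s using Finset.induction_on with
  | empty => simpa using memI_zero hM
  | insert x s hx ih =>
    have h1 := ih fun a ha b hb => hh a (Finset.mem_insert_of_mem ha) b (Finset.mem_insert_of_mem hb)
    have h2 : MemLocalIdeal M (∑ b ∈ s, (h x b + h b x)) := memI_sum hM _ fun b hb =>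
      hh x (Finset.mem_insert_self x s) b (Finset.mem_insert_of_mem hb) (fun e => hx (e ▸ hb))
    have h3 := memI_add hM h2 h1
    simp only [Finset.sum_insert hx, Finset.sum_add_distrib] at h3 ⊢
    convert h3 using 1
    ring

variable {G : Type*} [Group G] [Fintype G]

open Classical in
theorem card_class_eq_index (g : G) :
    (Finset.univ.filter (IsConj g)).card = (Subgroup.centralizer ({g} : Set G)).index := by
  have h := (Subgroup.index_mul_card (Subgroup.centralizer ({g} : Set G))).trans
    (Char.card_conjugates_mul_card_centralizer g).symm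
  rw [Nat.eq_of_mul_eq_mul_right Nat.card_pos h]
  simp [Nat.card_eq_fintype_card, Fintype.card_subtype]

open Classical in
theorem sum_class_eq_smul {V : Type*} [AddCommGroup V] [Module ℂ V] [FiniteDimensional ℂ V]
    (ρ : Representation ℂ G V) [ρ.IsIrreducible] (g : G) :
    ∑ a ∈ Finset.univ.filter (IsConj g), ρ a =
      (((Finset.univ.filter (IsConj g)).card : ℂ) * ρ.character g / (Module.finrank ℂ V : ℂ)) •
        (1 : Module.End ℂ V) := by
  rw [CharApp.eq_trace_div_smul ρ (∑ a ∈ Finset.univ.filter (IsConj g), ρ a) ?_]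
  · congr 2
    rw [map_sum, ← nsmul_eq_mul, ← Finset.sum_const]
    refine Finset.sum_congr rfl fun a ha => ?_
    obtain ⟨c, rfl⟩ := isConj_iff.mp (Finset.mem_filter.mp ha).2
    exact ρ.char_conj g c
  · intro h
    rw [Finset.sum_mul, Finset.mul_sum]
    refine Finset.sum_equiv (MulAut.conj h⁻¹).toEquiv (fun a => ?_) fun a _ => ?_
    · simp only [Finset.mem_filter, Finset.mem_univ, true_and, MulEquiv.toEquiv_eq_coe,
        EquivLike.coe_coe, MulAut.conj_apply, inv_inv]
      have hx : IsConj a (h⁻¹ * a * h) := isConj_iff.mpr ⟨h⁻¹, by group⟩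
      exact ⟨fun k => k.trans hx, fun k => k.trans hx.symm⟩
    · simp only [MulEquiv.toEquiv_eq_coe, EquivLike.coe_coe, MulAut.conj_apply, inv_inv, ← map_mul]
      congr 1
      group

/-- Gow: odd degree and self-dual mod `M` implies principal `2`-block. -/
theorem mem_principal_of_selfdual (hM : IsPModular 2 M) (χ : IrrCharacter G)
    (hd : Odd (charDegree (χ : G → ℂ)))
    (hs : ∀ h : G, MemLocalIdeal M ((χ : G → ℂ) h⁻¹ - (χ : G → ℂ) h)) :
    χ ∈ principalBlock M G := by
  classical
  obtain ⟨χ, n, ρ, hi, rfl⟩ := χ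
  intro g
  have hdeg : ρ.character 1 = (n : ℂ) := by rw [Representation.char_one, Module.finrank_fin_fun]
  have hn : ¬ 2 ∣ n := by
    have : charDegree ρ.character = n := by simp [charDegree, hdeg]
    simp only [this] at hd
    exact fun h => (Nat.not_even_iff_odd.mpr hd) (even_iff_two_dvd.mpr h)
  have hn0 : (n : ℂ) ≠ 0 := Nat.cast_ne_zero.mpr (fun h => hn (h ▸ dvd_zero 2))
  set K := Finset.univ.filter (IsConj g) with hK
  set k := K.card with hk
  set ω : ℂ := (k : ℂ) * ρ.character g / (n : ℂ) with hω
  set ω' : ℂ := (k : ℂ) * ρ.character g⁻¹ / (n : ℂ) with hω'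
  have hA : ∑ a ∈ K, ρ a = ω • (1 : Module.End ℂ (Fin n → ℂ)) := by
    have := sum_class_eq_smul ρ g
    rwa [Module.finrank_fin_fun] at this
  have hB : ∑ a ∈ K, ρ a⁻¹ = ω' • (1 : Module.End ℂ (Fin n → ℂ)) := by
    have h1 := sum_class_eq_smul ρ g⁻¹
    rw [Module.finrank_fin_fun] at h1
    have h2 : Finset.univ.filter (IsConj g⁻¹) = K.image (·⁻¹) := by
      ext a
      simp only [K, Finset.mem_filter, Finset.mem_univ, true_and, Finset.mem_image]
      constructor
      · intro h
        obtain ⟨c, rfl⟩ := isConj_iff.mp h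
        exact ⟨c * g * c⁻¹, isConj_iff.mpr ⟨c, rfl⟩, by group⟩
      · rintro ⟨b, hb, rfl⟩
        obtain ⟨c, rfl⟩ := isConj_iff.mp hb
        exact isConj_iff.mpr ⟨c, by group⟩
    rw [h2, Finset.sum_image fun a _ b _ h => inv_injective h,
      Finset.card_image_of_injective _ inv_injective] at h1
    exact h1
  have hS : ∑ a ∈ K, ∑ b ∈ K, ρ.character (a * b⁻¹) = ω * ω' * n := by
    have h1 := congrArg (LinearMap.trace ℂ (Fin n → ℂ)) (congrArg₂ (· * ·) hA hB)
    simp only [Finset.sum_mul_sum, ← map_mul, map_sum, smul_mul_smul_comm, one_mul, map_smul,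
      LinearMap.trace_one, Module.finrank_fin_fun, smul_eq_mul] at h1
    exact h1
  have hdiag : ∑ a ∈ K, ρ.character (a * a⁻¹) = (k : ℂ) * n := by
    simp [hdeg, hk]
  have h2 : MemLocalIdeal M (2 : ℂ) := by simpa using memI_p hM
  have hint : ∀ x, IsIntegral ℤ (ρ.character x) := Char.isIntegral_character ρ
  have hP : MemLocalIdeal M (ω * ω' * n - (k : ℂ) * n) := by
    rw [← hS, ← hdiag]
    refine memI_pair_sum hM K _ fun a _ b _ _ => ?_
    have h3 := memI_add hM (hs (a * b⁻¹))
      (memI_mul_right hM h2 (memR_of_isIntegral hM (hint (a * b⁻¹))))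
    rw [mul_inv_rev, inv_inv] at h3
    convert h3 using 1
    ring
  have hR : MemLocalRing M (n : ℂ)⁻¹ := memR_natCast_inv hM hn
  have hωR : MemLocalRing M ω :=
    memR_mul hM (memR_mul hM (memR_natCast hM k) (memR_of_isIntegral hM (hint g))) hR
  have hωω : MemLocalIdeal M (ω' - ω) := by
    have := memI_mul_left hM (memR_mul hM (memR_natCast hM k) hR) (hs g)
    convert this using 1
    simp only [hω, hω']
    ring
  have hsq : MemLocalIdeal M (ω ^ 2 - (k : ℂ)) := by
    have h4 := memI_mul_right hM hP hR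
    have h5 := memI_mul_left hM hωR hωω
    have h6 := memI_sub hM h4 h5
    convert h6 using 1
    field_simp
    ring
  have hkk : MemLocalIdeal M ((k : ℂ) ^ 2 - (k : ℂ)) := by
    have h4 : MemLocalIdeal M ((k * (k - 1) : ℕ) : ℂ) :=
      (memI_natCast hM).mpr (Nat.even_mul_pred_self k).two_dvd
    convert h4 using 1
    rcases k with _ | m
    · simp
    · push_cast [Nat.add_sub_cancel]; ring
  have hfin : MemLocalIdeal M (((k : ℂ) - ω) ^ 2) := by
    have h4 := memI_sub hM (memI_sub hM hsq hkk)
      (memI_mul_right hM h2 (memR_mul hM (memR_natCast hM k) (memR_sub hM hωR (memR_natCast hM k))))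
    convert h4 using 1
    ring
  have h5 := memI_of_pow hM (memR_sub hM (memR_natCast hM k) hωR) hfin
  have hidx : (Subgroup.centralizer ({g} : Set G)).index = k := (card_class_eq_index g).symm
  have e1 : centralChar (fun _ : G => (1 : ℂ)) g = (k : ℂ) := by
    simp only [centralChar, hidx, mul_one, div_one]
  have e2 : centralChar ρ.character g = ω := by
    simp only [centralChar, hidx, hdeg, hω]
  rwa [e1, e2]

end Cfsg.Agent.CentralChar
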